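import Groth.Agent.H95.CycAlg.Main
import Mathlib.RingTheory.AdjoinRoot
import Mathlib.RingTheory.Localization.Away.Basic
import Mathlib.RingTheory.LocalProperties.Basic
import Mathlib.RingTheory.IntegralClosure.IntegrallyClosed
import Mathlib.RingTheory.Flat.Basic

/-!
The normal cyclic cover over a normal base, inside `B_g[t]/(t^N - φ)`.
-/

set_option autoImplicit false
set_option linter.style.haveILetI false
universe u

namespace Groth.Agent.H95.CycAlg.Cover

open Polynomial Groth.Agent.H95.CycAlg.Integral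

section Basis

variable {R : Type u} [CommRing R] {N : ℕ} (hN : 0 < N) (φ : R)

local notation "C'" => AdjoinRoot (X ^ N - C φ : R[X])

include hN in
lemma monic : (X ^ N - C φ : R[X]).Monic := monic_X_pow_sub_C φ hN.ne'

lemma root_pow : (AdjoinRoot.root (X ^ N - C φ : R[X])) ^ N = algebraMap R C' φ := by
  have h := AdjoinRoot.eval₂_root (X ^ N - C φ : R[X])
  rw [eval₂_sub, eval₂_X_pow, eval₂_C, sub_eq_zero] at h
  exact h

include hN in
lemma exists_coord (x : C') :
    ∃ c : Fin N → R, x = ∑ j, algebraMap R C' (c j) * AdjoinRoot.root _ ^ (j : ℕ) := by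
  rcases subsingleton_or_nontrivial R with h | h
  · refine ⟨0, ?_⟩
    haveI : Subsingleton C' := (AdjoinRoot.mk_surjective).subsingleton
    exact Subsingleton.elim _ _
  obtain ⟨p, rfl⟩ := AdjoinRoot.mk_surjective x
  have hq : AdjoinRoot.mk (X ^ N - C φ : R[X]) p =
      AdjoinRoot.mk (X ^ N - C φ : R[X]) (p %ₘ (X ^ N - C φ)) := by
    rw [AdjoinRoot.mk_eq_mk]
    refine ⟨p /ₘ (X ^ N - C φ), ?_⟩
    linear_combination -(modByMonic_add_div p (X ^ N - C φ))
  have hdeg : (p %ₘ (X ^ N - C φ)).natDegree < N := by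
    have := natDegree_modByMonic_lt p (monic hN φ) (fun h => by
      have := congrArg natDegree h
      rw [natDegree_X_pow_sub_C, natDegree_one] at this
      omega)
    rwa [natDegree_X_pow_sub_C] at this
  refine ⟨fun j => (p %ₘ (X ^ N - C φ)).coeff j, ?_⟩
  rw [hq, Fin.sum_univ_eq_sum_range (fun j => algebraMap R C' ((p %ₘ (X ^ N - C φ)).coeff j) *
    AdjoinRoot.root _ ^ j)]
  conv_lhs => rw [as_sum_range_C_mul_X_pow' _ hdeg]
  simp [map_sum, AdjoinRoot.algebraMap_eq]

include hN in
lemma coord_eq_zero (c : Fin N → R)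
    (h : ∑ j, algebraMap R C' (c j) * AdjoinRoot.root _ ^ (j : ℕ) = 0) : c = 0 := by
  classical
  rcases subsingleton_or_nontrivial R with hs | hs
  · exact Subsingleton.elim _ _
  let q : R[X] := ∑ j : Fin N, C (c j) * X ^ (j : ℕ)
  have hq : AdjoinRoot.mk (X ^ N - C φ : R[X]) q = 0 := by
    simpa [q, map_sum, AdjoinRoot.algebraMap_eq] using h
  have hdeg : q.degree < (X ^ N - C φ : R[X]).degree := by
    rw [degree_X_pow_sub_C hN]
    exact degree_sum_fin_lt c
  rw [AdjoinRoot.mk_eq_zero] at hq
  have hq0 : q = 0 := by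
    by_contra hne
    exact (monic hN φ).not_dvd_of_degree_lt hne hdeg hq
  funext i
  have := congrArg (fun p => coeff p (i : ℕ)) hq0
  simp only [q, finset_sum_coeff, coeff_C_mul, coeff_X_pow, coeff_zero] at this
  rw [Finset.sum_eq_single i] at this
  · simpa using this
  · intro b _ hb
    rw [if_neg (fun h => hb (Fin.ext h.symm)), mul_zero]
  · simp

end Basis

variable {B : Type u} [CommRing B] [IsDomain B] [IsIntegrallyClosed B]
  {B' : Type u} [CommRing B'] [Algebra B B'] {g : B} [IsLocalization.Away g B']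

lemma inj_away (hg : g ≠ 0) : Function.Injective (algebraMap B B') :=
  IsLocalization.injective B' (powers_le_nonZeroDivisors_of_noZeroDivisors hg)

lemma exists_of_isIntegral (hg : g ≠ 0) (y : B') (hy : IsIntegral B y) :
    ∃ b : B, algebraMap B B' b = y := by
  let K := FractionRing B
  have hu : ∀ m : Submonoid.powers g, IsUnit (Algebra.ofId B K m) := by
    rintro ⟨_, n, rfl⟩
    exact (isUnit_iff_ne_zero.mpr fun h => pow_ne_zero n hg
      ((IsFractionRing.injective B K) (h.trans (map_zero _).symm)))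
  let ψ : B' →ₐ[B] K := IsLocalization.liftAlgHom (M := Submonoid.powers g) (f := Algebra.ofId B K) hu
  obtain ⟨b, hb⟩ := IsIntegrallyClosed.isIntegral_iff.mp (hy.map ψ)
  refine ⟨b, ?_⟩
  have hinj : Function.Injective ψ := by
    refine (IsLocalization.lift_injective_iff (M := Submonoid.powers g) (S := B') hu).2 fun x z => ?_
    exact ⟨fun h => congrArg _ (inj_away hg h), fun h => congrArg _ (IsFractionRing.injective B K h)⟩
  exact hinj (by rw [AlgHom.commutes, hb])

variable {N : ℕ} (φ : B)

local notation "P'" => (X ^ N - C (algebraMap B B' φ) : B'[X])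
local notation "C'" => AdjoinRoot P'
local notation "ρ" => AdjoinRoot.root P'

omit [IsDomain B] [IsIntegrallyClosed B] in
lemma exists_twist {ζ : B} (hζ : ζ ^ N = 1) (l : ℕ) :
    ∃ σ : C' →ₐ[B'] C', σ ρ = algebraMap B C' (ζ ^ l) * ρ := by
  refine ⟨AdjoinRoot.liftAlgHom P' (Algebra.ofId B' C') (algebraMap B C' (ζ ^ l) * ρ) ?_,
    AdjoinRoot.liftAlgHom_root _ _ _ _⟩
  rw [eval₂_sub, eval₂_X_pow, eval₂_C, mul_pow, root_pow, ← map_pow, ← pow_mul, mul_comm l,
    pow_mul, hζ, one_pow, map_one, one_mul]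
  exact sub_self _

/-- `φ` times an integral element has integral coordinates. -/
lemma exists_coord_of_isIntegral (hg : g ≠ 0) (hN : 0 < N) {ζ : B} (hζ : IsPrimitiveRoot ζ N)
    (hNu : IsUnit (N : B)) (x : C') (hx : IsIntegral B x) :
    ∃ b : Fin N → B, algebraMap B C' φ * x = ∑ j, algebraMap B C' (b j) * ρ ^ (j : ℕ) := by
  classical
  obtain ⟨c, hc⟩ := exists_coord hN _ x
  have hinj : Function.Injective (algebraMap B' C') := by
    refine (injective_iff_map_eq_zero (algebraMap B' C')).2 fun a ha => ?_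
    have := congrFun (coord_eq_zero hN (algebraMap B B' φ) (fun j => if (j : ℕ) = 0 then a else 0) (by
      rw [Finset.sum_eq_single (⟨0, hN⟩ : Fin N)]
      · simpa using ha
      · intro b _ hb
        have : (b : ℕ) ≠ 0 := fun h => hb (Fin.ext h)
        simp [this]
      · simp)) ⟨0, hN⟩
    simpa using this
  have hex : ∀ j, ∃ b : B, algebraMap B B' b = algebraMap B B' φ * c j := by
    intro j
    have hσ : ∀ l : ℕ, ∃ σ : C' →ₐ[B'] C', σ ρ = algebraMap B C' (ζ ^ l) * ρ :=
      exists_twist φ hζ.pow_eq_one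
    choose σ hσ using hσ
    set w := algebraMap B' C' (c j) * ρ ^ (j : ℕ) with hw
    have hS : ∑ l ∈ Finset.range N, algebraMap B C' (ζ ^ (l * (N - (j : ℕ)))) * σ l x =
        algebraMap B C' (N : B) * w := by
      have hsum : ∀ i : Fin N, (∑ l ∈ Finset.range N, ζ ^ (l * (N - (j : ℕ))) * (ζ ^ l) ^ (i : ℕ))
          = if i = j then (N : B) else 0 := by
        intro i
        have hrw : ∀ l, ζ ^ (l * (N - (j : ℕ))) * (ζ ^ l) ^ (i : ℕ) =
            (ζ ^ (N - (j : ℕ) + i)) ^ l := fun l => by
          rw [← pow_mul, ← pow_mul, ← pow_add]; congr 1; ring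
        simp only [hrw]
        have hj := j.isLt
        have hi := i.isLt
        split_ifs with hij
        · subst hij
          rw [Nat.sub_add_cancel hi.le, hζ.pow_eq_one]
          simp
        · have hne : ζ ^ (N - (j : ℕ) + i) ≠ 1 := fun h => by
            rw [hζ.pow_eq_one_iff_dvd] at h
            obtain ⟨c, hc⟩ := h
            have hne' : (i : ℕ) ≠ (j : ℕ) := fun h => hij (Fin.ext h)
            rcases c with _ | _ | c
            · omega
            · omega
            · have : N * 2 ≤ N * (c + 1 + 1) := Nat.mul_le_mul_left _ (by omega)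
              omega
          have := geom_sum_mul (ζ ^ (N - (j : ℕ) + i)) N
          rw [← pow_mul ζ, mul_comm, mul_comm _ N, pow_mul, hζ.pow_eq_one, one_pow, sub_self,
            mul_eq_zero] at this
          exact this.resolve_left (sub_ne_zero.mpr hne)
      simp only [hc, map_sum, map_mul, AlgHom.commutes, map_pow (σ _), hσ, mul_pow, Finset.mul_sum]
      rw [Finset.sum_comm, Finset.sum_eq_single j]
      · rw [hw, ← (show _ = (N : B) from (hsum j).trans (if_pos rfl)), map_sum, Finset.sum_mul]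
        exact Finset.sum_congr rfl fun l _ => by simp only [map_mul, map_pow]; ring
      · intro i _ hij
        calc ∑ l ∈ Finset.range N, algebraMap B C' (ζ ^ (l * (N - (j : ℕ)))) *
              (algebraMap B' C' (c i) * ((algebraMap B C' (ζ ^ l)) ^ (i : ℕ) * ρ ^ (i : ℕ)))
            = algebraMap B C' (∑ l ∈ Finset.range N, ζ ^ (l * (N - (j : ℕ))) * (ζ ^ l) ^ (i : ℕ)) *
                (algebraMap B' C' (c i) * ρ ^ (i : ℕ)) := by
              rw [map_sum, Finset.sum_mul]
              exact Finset.sum_congr rfl fun l _ => by simp only [map_mul, map_pow]; ring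
          _ = 0 := by rw [hsum, if_neg hij, map_zero, zero_mul]
      · simp
    have hwint : IsIntegral B w := by
      obtain ⟨e, he⟩ := hNu.exists_left_inv
      have h1 : w = algebraMap B C' e * (algebraMap B C' (N : B) * w) := by
        rw [← mul_assoc, ← map_mul, he, map_one, one_mul]
      rw [h1, ← hS]
      exact isIntegral_algebraMap.mul ((integralClosure B C').sum_mem fun l _ =>
        isIntegral_algebraMap.mul (hx.map ((σ l).restrictScalars B)))
    have hpow : IsIntegral B ((algebraMap B B' φ * c j) ^ N) := by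
      refine (isIntegral_algHom_iff (IsScalarTower.toAlgHom B B' C') hinj).mp ?_
      have h2 : IsScalarTower.toAlgHom B B' C' ((algebraMap B B' φ * c j) ^ N) =
          algebraMap B C' (φ ^ (N - (j : ℕ))) * w ^ N := by
        have hρ : (ρ ^ (j : ℕ)) ^ N = algebraMap B C' (φ ^ (j : ℕ)) := by
          rw [← pow_mul, mul_comm, pow_mul, root_pow, ← IsScalarTower.algebraMap_apply B B' C',
            map_pow]
        rw [hw, mul_pow, mul_pow, hρ, IsScalarTower.coe_toAlgHom', map_mul,
          ← map_pow (algebraMap B B'), ← IsScalarTower.algebraMap_apply B B' C',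
          ← map_pow (algebraMap B' C') (c j)]
        rw [show φ ^ N = φ ^ (N - (j : ℕ)) * φ ^ (j : ℕ) by
          rw [← pow_add, Nat.sub_add_cancel j.isLt.le], map_mul]
        ring
      rw [h2]
      exact isIntegral_algebraMap.mul ((integralClosure B C').pow_mem hwint N)
    exact exists_of_isIntegral hg _ (IsIntegral.of_pow hN hpow)
  choose b hb using hex
  refine ⟨b, ?_⟩
  rw [hc, Finset.mul_sum]
  refine Finset.sum_congr rfl fun j _ => ?_
  rw [IsScalarTower.algebraMap_apply B B' C' (b j), hb, map_mul, ← mul_assoc,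
    ← IsScalarTower.algebraMap_apply B B' C']

omit [IsDomain B] [IsIntegrallyClosed B] in
/-- in a normal ring, a regular `c` divides `a` as soon as `c^N` divides `a^N` -/
lemma dvd_of_pow_dvd_pow {A : Type u} [CommRing A]
    (hnorm : ∀ (Q : Ideal A) [Q.IsMaximal], IsDomain (Localization.AtPrime Q) ∧
      IsIntegrallyClosed (Localization.AtPrime Q))
    (a c : A) (hc : ∀ x, c * x = 0 → x = 0) {n : ℕ} (hn : 0 < n) (h : c ^ n ∣ a ^ n) : c ∣ a := by
  rw [← Ideal.mem_span_singleton]
  refine Ideal.mem_of_localization_maximal fun Q hQ => ?_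
  obtain ⟨h1, h2⟩ := hnorm Q
  let L := Localization.AtPrime Q
  have hc0 : algebraMap A L c ≠ 0 := fun h0 => by
    obtain ⟨⟨s, hs⟩, hs'⟩ := (IsLocalization.map_eq_zero_iff Q.primeCompl L c).mp h0
    exact hs (by rw [hc s ((mul_comm _ _).trans hs')]; exact Q.zero_mem)
  rw [Ideal.map_span, Set.image_singleton, Ideal.mem_span_singleton]
  obtain ⟨e, he⟩ := h
  let F := FractionRing L
  have hcF : algebraMap L F (algebraMap A L c) ≠ 0 := fun h0 =>
    hc0 (IsFractionRing.injective L F (h0.trans (map_zero _).symm))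
  have hint : IsIntegral L (algebraMap L F (algebraMap A L a) / algebraMap L F (algebraMap A L c)) := by
    refine IsIntegral.of_pow hn ?_
    rw [div_pow, ← map_pow, ← map_pow, ← map_pow (algebraMap L F), ← map_pow, he, map_mul,
      map_mul, mul_div_cancel_left₀ _ (by
        rw [map_pow, map_pow]; exact pow_ne_zero _ hcF)]
    exact isIntegral_algebraMap
  obtain ⟨y, hy⟩ := IsIntegrallyClosed.isIntegral_iff.mp hint
  refine ⟨y, IsFractionRing.injective L F ?_⟩
  rw [map_mul, hy, mul_div_cancel₀ _ hcF]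

variable {A : Type u} [CommRing A] [Algebra B A] [Module.Finite B A]

set_option maxHeartbeats 1600000 in
/-- **The normal cyclic cover**: a finite normal `B`-algebra inside `B_g[t]/(t^N - u f^α)` containing `t`. -/
theorem main [IsNoetherianRing B] (f : B) (u₀ : Bˣ) (α : ℕ) (hφ : φ = (u₀ : B) * f ^ α) (hg : g ≠ 0)
    (hfg : f ∣ g) (hN : 0 < N) {ζ : B} (hζ : IsPrimitiveRoot ζ N) (hNu : IsUnit (N : B))
    (hred : ∀ x (n : ℕ), f ∣ x ^ n → f ∣ x)
    (hnorm : ∀ (Q : Ideal A) [Q.IsMaximal], IsDomain (Localization.AtPrime Q) ∧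
      IsIntegrallyClosed (Localization.AtPrime Q))
    (hreg : ∀ (P : Ideal B) [P.IsPrime], IsRegularLocalRing (Localization.AtPrime P))
    (hD : ∀ (P : Ideal (B ⧸ Ideal.span ({f} : Set B))) [P.IsPrime],
      IsRegularLocalRing (Localization.AtPrime P))
    (t : A) (ι : A →ₐ[B] C') (hι : Function.Injective ι) (hιt : ι t = ρ) :
    (∀ (Q : Ideal A) [Q.IsPrime], IsRegularLocalRing (Localization.AtPrime Q)) ∧
      (∃ (s w : A), IsUnit w ∧ s ^ (N / Nat.gcd N α) = w * algebraMap B A f ∧
        (Ideal.span ({s} : Set A)).IsRadical) ∧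
      Module.Flat B A ∧
      (IsUnit f → Function.Bijective fun c : Fin N → B =>
        ∑ j, algebraMap B A (c j) * t ^ (j : ℕ)) := by
  classical
  have hinjB : Function.Injective (algebraMap B B') := inj_away hg
  have hf0 : f ≠ 0 := fun h => hg (zero_dvd_iff.mp (h ▸ hfg))
  have hgu : IsUnit (algebraMap B B' g) := IsLocalization.Away.algebraMap_isUnit g
  obtain ⟨g', hg'⟩ := hfg
  have hfu : IsUnit (algebraMap B C' f) := by
    rw [IsScalarTower.algebraMap_apply B B' C']
    refine IsUnit.map _ (isUnit_of_mul_isUnit_left (y := algebraMap B B' g') ?_)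
    rw [← map_mul, ← hg']
    exact hgu
  obtain ⟨v, hv⟩ := hfu.exists_right_inv
  have hρN : ρ ^ N = algebraMap B C' φ := by
    rw [root_pow, ← IsScalarTower.algebraMap_apply B B' C']
  -- the ring `B_f[t]`
  let K : Subalgebra B C' := Algebra.adjoin B {ρ, v}
  let tK : K := ⟨ρ, Algebra.subset_adjoin (by simp)⟩
  let vK : K := ⟨v, Algebra.subset_adjoin (by simp)⟩
  let M : Subalgebra B C' := Algebra.adjoin B {ρ}
  have hM : ∀ x ∈ M, ∃ b : Fin N → B, x = ∑ j, algebraMap B C' (b j) * ρ ^ (j : ℕ) := by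
    intro x hx
    rw [show M = (Polynomial.aeval ρ).range from Algebra.adjoin_singleton_eq_range_aeval B ρ] at hx
    obtain ⟨p, rfl⟩ := hx
    haveI : Nontrivial B := inferInstance
    have hdeg : (p %ₘ (X ^ N - C φ)).natDegree < N := by
      have := natDegree_modByMonic_lt p (monic hN φ) (fun h => by
        have := congrArg natDegree h
        rw [natDegree_X_pow_sub_C, natDegree_one] at this
        omega)
      rwa [natDegree_X_pow_sub_C] at this
    refine ⟨fun j => (p %ₘ (X ^ N - C φ)).coeff j, ?_⟩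
    have hz : aeval ρ (X ^ N - C φ : B[X]) = 0 := by simp [hρN]
    rw [Fin.sum_univ_eq_sum_range (fun j => algebraMap B C' ((p %ₘ (X ^ N - C φ)).coeff j) * ρ ^ j)]
    change aeval ρ p = _
    conv_lhs => rw [← modByMonic_add_div p (X ^ N - C φ), map_add, map_mul, hz, zero_mul, add_zero,
      as_sum_range_C_mul_X_pow' _ hdeg]
    simp [map_sum]
  have hKspan : ∀ x ∈ K, ∃ m : ℕ, algebraMap B C' (f ^ m) * x ∈ M := by
    intro x hx
    induction hx using Algebra.adjoin_induction with
    | mem y hy =>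
      rcases hy with rfl | rfl
      · exact ⟨0, by rw [pow_zero, map_one, one_mul]; exact Algebra.subset_adjoin rfl⟩
      · exact ⟨1, by rw [pow_one, hv]; exact one_mem _⟩
    | algebraMap b => exact ⟨0, by simp⟩
    | add x y _ _ hx hy =>
      obtain ⟨m, hm⟩ := hx
      obtain ⟨n, hn⟩ := hy
      refine ⟨m + n, ?_⟩
      have h3 := add_mem (M.mul_mem (M.algebraMap_mem (f ^ n)) hm) (M.mul_mem (M.algebraMap_mem (f ^ m)) hn)
      convert h3 using 1
      rw [map_pow, map_pow, map_pow, pow_add]; ring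
    | mul x y _ _ hx hy =>
      obtain ⟨m, hm⟩ := hx
      obtain ⟨n, hn⟩ := hy
      refine ⟨m + n, ?_⟩
      have h3 := M.mul_mem hm hn
      convert h3 using 1
      rw [map_pow, map_pow, map_pow, pow_add]; ring
  have hliC : ∀ c : Fin N → B, ∑ j, algebraMap B C' (c j) * ρ ^ (j : ℕ) = 0 → c = 0 := by
    intro c hc
    have := coord_eq_zero hN (algebraMap B B' φ) (fun j => algebraMap B B' (c j))
      ((Finset.sum_congr rfl fun j _ => by rw [IsScalarTower.algebraMap_apply B B' C']).symm.trans hc)
    funext j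
    exact hinjB ((congrFun this j).trans (map_zero _).symm)
  let D : Datum B K :=
    { f := f, u := u₀, N := N, α := α, t := tK, v := vK, hN := hN, hf := hf0
      hv := Subtype.ext hv
      ht := Subtype.ext (show ρ ^ N = algebraMap B C' ((u₀ : B) * f ^ α) by rw [← hφ, hρN])
      hred := hred
      hspan := fun x => by
        obtain ⟨m, hm⟩ := hKspan x.1 x.2
        obtain ⟨b, hb⟩ := hM _ hm
        refine ⟨m, b, Subtype.ext ?_⟩
        simpa using hb
      hli := Fintype.linearIndependent_iff.mpr fun c hc => congrFun (hliC c (by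
        have := congrArg Subtype.val hc
        simpa [Algebra.smul_def, tK] using this)) }
  have hσ : ∀ l : ℕ, ∃ σ : K →ₐ[B] K, σ D.t = algebraMap B K (ζ ^ l) * D.t := by
    intro l
    obtain ⟨σ₀, hσ₀⟩ := exists_twist (B' := B') φ hζ.pow_eq_one l
    let τ : C' →ₐ[B] C' := σ₀.restrictScalars B
    have hτv : τ v = v := by
      refine hfu.mul_left_cancel ?_
      rw [hv]
      conv_lhs => rw [← τ.commutes f, ← map_mul, hv, map_one]
    have hτρ : τ ρ = algebraMap B C' (ζ ^ l) * ρ := hσ₀
    refine ⟨(τ.comp K.val).codRestrict K fun x => ?_, Subtype.ext hτρ⟩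
    have : τ x.1 ∈ Algebra.adjoin B (τ '' {ρ, v}) := by
      rw [← AlgHom.map_adjoin]
      exact ⟨x.1, x.2, rfl⟩
    refine Algebra.adjoin_le ?_ this
    rintro _ ⟨y, hy, rfl⟩
    rcases hy with rfl | rfl
    · rw [hτρ]; exact K.mul_mem (K.algebraMap_mem _) tK.2
    · rw [hτv]; exact vK.2
  -- the image of `A`
  have hAK : ∀ a, ι a ∈ K := by
    intro a
    obtain ⟨b, hb⟩ := exists_coord_of_isIntegral φ hg hN hζ hNu (ι a) ((IsIntegral.of_finite B a).map ι)
    have h1 : algebraMap B C' φ * ι a ∈ K := by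
      rw [hb]
      exact K.sum_mem fun j _ => K.mul_mem (K.algebraMap_mem _) (K.pow_mem tK.2 _)
    have h2 := K.mul_mem (K.mul_mem (K.algebraMap_mem ((u₀⁻¹ : Bˣ) : B)) (K.pow_mem vK.2 α)) h1
    convert h2 using 1
    have h3 : algebraMap B C' ((u₀⁻¹ : Bˣ) : B) * v ^ α * algebraMap B C' φ = 1 := by
      rw [show algebraMap B C' φ = algebraMap B C' (u₀ : B) * algebraMap B C' f ^ α by
        rw [← map_pow, ← map_mul]; exact congrArg _ hφ]
      calc algebraMap B C' ((u₀⁻¹ : Bˣ) : B) * v ^ α * (algebraMap B C' (u₀ : B) * algebraMap B C' f ^ α)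
          = algebraMap B C' (((u₀⁻¹ : Bˣ) : B) * (u₀ : B)) * (algebraMap B C' f * v) ^ α := by
            rw [map_mul, mul_pow]; ring
        _ = 1 := by rw [hv, one_pow, mul_one, Units.inv_mul, map_one]
    rw [← mul_assoc, h3, one_mul]
  let ι' : A →ₐ[B] K := ι.codRestrict K hAK
  have hι' : Function.Injective ι' := fun a b h => hι (congrArg Subtype.val h)
  let IC : Subalgebra B K := integralClosure B K
  have hmem : ∀ x, x ∈ IC ↔ IsIntegral B x := fun x => Iff.rfl
  have hsp : ∀ x, IsIntegral B x → x ∈ Submodule.span B (Set.range D.e) :=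
    fun x hx => D.mem_span_of_isIntegral hζ hNu hσ x hx
  have hgen : IC = Algebra.adjoin B (Set.range D.e) := by
    refine le_antisymm (fun x hx => Algebra.span_le_adjoin B _ (hsp x hx)) (Algebra.adjoin_le ?_)
    rintro _ ⟨j, rfl⟩
    exact D.isIntegral_e j
  have hfreg : ∀ x : A, ∀ m : ℕ, algebraMap B A (f ^ m) * x = 0 → x = 0 := by
    intro x m hx
    refine hι ((hfu.pow m).mul_left_cancel ?_)
    have := congrArg ι hx
    rw [map_mul, AlgHom.commutes, map_pow, map_zero] at this
    rw [this, map_zero, mul_zero]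
  have he : ∀ j : Fin N, ∃ a : A, ι' a = D.e j := by
    intro j
    set q := (j : ℕ) * α / N with hq
    set r := (j : ℕ) * α % N with hr
    have hqr : N * q + r = (j : ℕ) * α := Nat.div_add_mod _ _
    obtain ⟨a, ha⟩ : algebraMap B A (f ^ q) ∣ t ^ (j : ℕ) := by
      refine dvd_of_pow_dvd_pow hnorm _ _ (fun x hx => hfreg x q hx) hN
        ⟨algebraMap B A ((u₀ : B) ^ (j : ℕ) * f ^ r), hι ?_⟩
      have h4 : (ρ ^ (j : ℕ)) ^ N = algebraMap B C' φ ^ (j : ℕ) := by
        rw [← pow_mul, mul_comm (j : ℕ), pow_mul, hρN]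
      rw [map_pow, map_pow, hιt, h4, ← map_pow, ← map_pow, ← map_mul, AlgHom.commutes, hφ]
      congr 1
      rw [mul_pow, ← pow_mul, mul_comm α, ← hqr, pow_add, pow_mul]
      ring
    refine ⟨a, Subtype.ext ?_⟩
    have h5 := congrArg ι ha
    rw [map_pow, hιt, map_mul, AlgHom.commutes] at h5
    change ι a = ρ ^ (j : ℕ) * v ^ q
    rw [h5, map_pow]
    calc ι a = (algebraMap B C' f * v) ^ q * ι a := by rw [hv, one_pow, one_mul]
      _ = _ := by ring
  choose ea hea using he
  have hrange : ι'.range = IC := by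
    refine le_antisymm ?_ ?_
    · rintro _ ⟨a, rfl⟩
      exact (hmem _).mpr ((IsIntegral.of_finite B a).map ι')
    · rw [hgen]
      exact Algebra.adjoin_le (by rintro _ ⟨j, rfl⟩; exact ⟨ea j, hea j⟩)
  let eA : A ≃ₐ[B] IC := (AlgEquiv.ofInjective ι' hι').trans (Subalgebra.equivOfEq _ _ hrange)
  have hspanA : Submodule.span B (Set.range ea) = ⊤ := by
    apply Submodule.map_injective_of_injective (f := ι'.toLinearMap) hι'
    rw [Submodule.map_span, ← Set.range_comp, Submodule.map_top]
    refine le_antisymm (Submodule.span_le.mpr ?_) ?_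
    · rintro _ ⟨j, rfl⟩; exact ⟨ea j, rfl⟩
    · rintro _ ⟨a, rfl⟩
      have := hsp (ι' a) ((IsIntegral.of_finite B a).map ι')
      rwa [show (⇑ι'.toLinearMap ∘ ea) = D.e from funext hea]
  have hliA : LinearIndependent B ea := LinearIndependent.of_comp ι'.toLinearMap (by
    rw [show (⇑ι'.toLinearMap ∘ ea) = D.e from funext hea]; exact D.li_e)
  haveI hfree : Module.Free B A := Module.Free.of_basis (Module.Basis.mk hliA hspanA.ge)
  haveI : Module.Flat B A := inferInstance
  haveI : Module.Free B IC := Module.Free.of_equiv eA.toLinearEquiv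
  haveI : Module.Finite B IC := Module.Finite.equiv eA.toLinearEquiv
  haveI : IsNoetherianRing IC := IsNoetherianRing.of_finite B IC
  haveI : Module.Flat B IC := inferInstance
  obtain ⟨s, w, hw, hs, hQ⟩ := Main.exists_uniformizer D IC hmem hgen hreg hD hNu
  refine ⟨fun Q hQp => ?_, ⟨eA.symm s, eA.symm w, hw.map _, ?_, ?_⟩, inferInstance, fun hfu' => ?_⟩
  · let Q' : Ideal IC := Q.comap eA.symm.toRingEquiv.toRingHom
    haveI : Q'.IsPrime := Ideal.comap_isPrime _ Q
    haveI := (hQ Q').1
    refine IsRegularLocalRing.of_ringEquiv (R := Localization.AtPrime Q') (IsLocalization.ringEquivOfRingEquiv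
      (M := Q'.primeCompl) (T := Q.primeCompl) (Localization.AtPrime Q') (Localization.AtPrime Q)
      eA.symm.toRingEquiv ?_)
    ext a
    constructor
    · rintro ⟨b, hb, rfl⟩; exact hb
    · intro ha
      exact ⟨eA a, by
        show eA.symm (eA a) ∉ Q
        rw [eA.symm_apply_apply]; exact ha, eA.symm_apply_apply a⟩
  · rw [← map_pow, hs, map_mul, AlgEquiv.commutes]
  · have hrad : (Ideal.span ({s} : Set IC)).IsRadical := by
      rintro x ⟨k, hk⟩
      refine Ideal.mem_of_localization_maximal fun Q hQm => ?_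
      by_cases hsQ : s ∈ Q
      · have hp := (hQ Q).2 hsQ
        rw [Ideal.map_span, Set.image_singleton]
        refine hp.mem_of_pow_mem k ?_
        rw [← map_pow, ← Set.image_singleton, ← Ideal.map_span]
        exact Ideal.mem_map_of_mem _ hk
      · rw [Ideal.map_span, Set.image_singleton, Ideal.span_singleton_eq_top.mpr
          (IsLocalization.map_units _ (⟨s, hsQ⟩ : Q.primeCompl))]
        trivial
    rintro x ⟨k, hk⟩
    rw [Ideal.mem_span_singleton] at hk
    have h6 : eA x ∈ Ideal.span ({s} : Set IC) := by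
      refine hrad ⟨k, ?_⟩
      rw [Ideal.mem_span_singleton, ← map_pow]
      simpa using map_dvd eA hk
    rw [Ideal.mem_span_singleton] at h6 ⊢
    simpa using map_dvd eA.symm h6
  · have hvB : ∃ c : B, algebraMap B A c * algebraMap B A f = 1 := by
      obtain ⟨c, hc⟩ := hfu'.exists_left_inv
      exact ⟨c, by rw [← map_mul, hc, map_one]⟩
    constructor
    · intro c c' h
      have h7 := congrArg ι h
      simp only [map_sum, map_mul, AlgHom.commutes, map_pow, hιt] at h7
      have := hliC (c - c') (by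
        rw [← sub_eq_zero.mpr h7, ← Finset.sum_sub_distrib]
        exact Finset.sum_congr rfl fun j _ => by simp only [Pi.sub_apply, map_sub, sub_mul])
      exact sub_eq_zero.mp this
    · intro x
      obtain ⟨b, hb⟩ := exists_coord_of_isIntegral φ hg hN hζ hNu (ι x) ((IsIntegral.of_finite B x).map ι)
      obtain ⟨c, hc⟩ := (u₀.isUnit.mul (hfu'.pow α)).exists_left_inv
      refine ⟨fun j => c * b j, hι ?_⟩
      simp only [map_sum, map_mul, AlgHom.commutes, map_pow, hιt]
      simp only [mul_assoc]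
      rw [← Finset.mul_sum, ← hb, ← mul_assoc, ← map_mul, show c * φ = 1 by rw [hφ]; exact hc,
        map_one, one_mul]

end Groth.Agent.H95.CycAlg.Cover
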