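import Mathlib.RingTheory.IntegralClosure.Algebra.Basic
import Mathlib.RingTheory.Polynomial.ScaleRoots
import Mathlib.RingTheory.RootsOfUnity.PrimitiveRoots
import Mathlib.Algebra.Ring.GeomSum
import Mathlib.LinearAlgebra.LinearIndependent.Basic
import Mathlib.RingTheory.Ideal.Quotient.Basic

/-!
The normalisation of `B[t]/(t^N - u f^α)` when `B/fB` is reduced.
-/

set_option autoImplicit false
universe u

namespace Groth.Agent.H95.CycAlg.Integral

open Polynomial

variable {B : Type u} [CommRing B] [IsDomain B] {f : B}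

lemma pow_dvd_of_pow_dvd (hf0 : f ≠ 0) (hred : ∀ x (n : ℕ), f ∣ x ^ n → f ∣ x) {N r : ℕ}
    (hr : r < N) : ∀ (m : ℕ) (y : B), f ^ (m * N) ∣ y ^ N * f ^ r → f ^ m ∣ y := by
  intro m
  induction m with
  | zero => intro y _; simp
  | succ m ih =>
    intro y hy
    have h1 : f ^ (N - r) * f ^ r ∣ y ^ N * f ^ r := by
      rw [← pow_add, Nat.sub_add_cancel hr.le]
      exact (pow_dvd_pow f (by rw [Nat.add_mul]; omega)).trans hy
    have h2 := (mul_dvd_mul_iff_right (pow_ne_zero r hf0)).mp h1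
    obtain ⟨y', rfl⟩ : f ∣ y := hred y N ((dvd_pow_self f (by omega)).trans h2)
    rw [show (m + 1) * N = N + m * N by ring, pow_add, mul_pow, mul_assoc,
      mul_dvd_mul_iff_left (pow_ne_zero N hf0)] at hy
    rw [pow_succ']
    exact mul_dvd_mul_left f (ih y' hy)

variable {K : Type u} [CommRing K] [Algebra B K]

omit [IsDomain B] in
lemma pow_dvd_of_isIntegral (hinj : Function.Injective (algebraMap B K))
    (hu : IsUnit (algebraMap B K f)) (hred : ∀ x (n : ℕ), f ∣ x ^ n → f ∣ x) :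
    ∀ (m : ℕ) (b : B) (z : K), IsIntegral B z → algebraMap B K (f ^ m) * z = algebraMap B K b →
      f ^ m ∣ b := by
  intro m
  induction m with
  | zero => intro b z _ _; simp
  | succ m ih =>
    intro b z hz heq
    obtain ⟨p, hp, hpz⟩ : IsIntegral B (algebraMap B K (f ^ m) * z) := isIntegral_algebraMap.mul hz
    have h1 : aeval (algebraMap B K f * (algebraMap B K (f ^ m) * z)) (p.scaleRoots f) = 0 :=
      scaleRoots_aeval_eq_zero hpz
    rw [← mul_assoc, ← map_mul, ← pow_succ', heq, aeval_algebraMap_apply, ← map_zero (algebraMap B K)] at h1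
    have h2 : (p.scaleRoots f).eval b = 0 := by
      simpa [coe_aeval_eq_eval] using hinj h1
    have h3 : f ∣ b ^ p.natDegree := by
      rw [eval_eq_sum_range, natDegree_scaleRoots, Finset.sum_range_succ, coeff_scaleRoots,
        hp.coeff_natDegree, Nat.sub_self, pow_zero, one_mul, one_mul] at h2
      rw [eq_neg_of_add_eq_zero_right h2]
      refine dvd_neg.mpr (Finset.dvd_sum fun i hi => ?_)
      rw [Finset.mem_range] at hi
      rw [coeff_scaleRoots]
      exact dvd_mul_of_dvd_left (dvd_mul_of_dvd_right (dvd_pow_self f (by omega)) _) _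
    obtain ⟨b', rfl⟩ := hred b _ h3
    rw [pow_succ']
    refine mul_dvd_mul_left f (ih b' z hz (hu.mul_left_cancel ?_))
    rw [← mul_assoc, ← map_mul, ← pow_succ', heq, map_mul]

/-- the data of `K = B_f[t]/(t^N - u f^α)` -/
structure Datum (B K : Type u) [CommRing B] [CommRing K] [Algebra B K] where
  f : B
  u : Bˣ
  N : ℕ
  α : ℕ
  t : K
  v : K
  hN : 0 < N
  hf : f ≠ 0
  hv : algebraMap B K f * v = 1
  ht : t ^ N = algebraMap B K ((u : B) * f ^ α)
  hred : ∀ x (n : ℕ), f ∣ x ^ n → f ∣ x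
  hspan : ∀ x : K, ∃ (m : ℕ) (b : Fin N → B),
    algebraMap B K (f ^ m) * x = ∑ j, algebraMap B K (b j) * t ^ (j : ℕ)
  hli : LinearIndependent B fun j : Fin N => t ^ (j : ℕ)

namespace Datum

variable (D : Datum B K)

def e (j : Fin D.N) : K := D.t ^ (j : ℕ) * D.v ^ ((j : ℕ) * D.α / D.N)

omit [IsDomain B] in
lemma fv (n : ℕ) : algebraMap B K (D.f ^ n) * D.v ^ n = 1 := by
  rw [map_pow, ← mul_pow, D.hv, one_pow]

omit [IsDomain B] in
lemma isUnit_f (D : Datum B K) : IsUnit (algebraMap B K D.f) := IsUnit.of_mul_eq_one _ D.hv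

omit [IsDomain B] in
lemma inj (D : Datum B K) : Function.Injective (algebraMap B K) := by
  intro a b hab
  have h := D.hli
  rw [Fintype.linearIndependent_iff] at h
  have := h (fun j => if (j : ℕ) = 0 then a - b else 0) (by
    rw [Finset.sum_eq_single (⟨0, D.hN⟩ : Fin D.N)]
    · simp [Algebra.smul_def, hab]
    · intro c _ hc
      have : (c : ℕ) ≠ 0 := fun h => hc (Fin.ext h)
      simp [this]
    · simp) ⟨0, D.hN⟩
  simpa [sub_eq_zero] using this

omit [IsDomain B] in
lemma isIntegral_e (j : Fin D.N) : IsIntegral B (D.e j) := by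
  refine IsIntegral.of_pow D.hN ?_
  have hq := Nat.div_add_mod ((j : ℕ) * D.α) D.N
  set q := (j : ℕ) * D.α / D.N with hqdef
  set r := (j : ℕ) * D.α % D.N with hrdef
  have h1 : D.e j ^ D.N = algebraMap B K ((D.u : B) ^ (j : ℕ) * D.f ^ r) := by
    calc D.e j ^ D.N = (D.t ^ D.N) ^ (j : ℕ) * (D.v ^ q) ^ D.N := by
          rw [e, mul_pow, ← pow_mul, ← pow_mul, mul_comm (j : ℕ), pow_mul]
      _ = algebraMap B K ((D.u : B) ^ (j : ℕ) * D.f ^ r) *
            (algebraMap B K (D.f ^ q) * D.v ^ q) ^ D.N := by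
          rw [D.ht, ← map_pow, mul_pow, ← pow_mul, mul_comm D.α, ← hq, pow_add]
          simp only [map_mul, map_pow, mul_pow, ← pow_mul]
          ring
      _ = _ := by rw [D.fv, one_pow, mul_one]
  rw [h1]
  exact isIntegral_algebraMap

lemma mem_span_of_isIntegral {ζ : B} (hζ : IsPrimitiveRoot ζ D.N) (hN : IsUnit (D.N : B))
    (hσ : ∀ l : ℕ, ∃ σ : K →ₐ[B] K, σ D.t = algebraMap B K (ζ ^ l) * D.t)
    (x : K) (hx : IsIntegral B x) : x ∈ Submodule.span B (Set.range D.e) := by
  choose σ hσt using hσ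
  obtain ⟨m, b, hb⟩ := D.hspan x
  have hx' : x = ∑ i, algebraMap B K (b i) * D.v ^ m * D.t ^ (i : ℕ) := by
    calc x = D.v ^ m * (algebraMap B K (D.f ^ m) * x) := by
          rw [← mul_assoc, mul_comm (D.v ^ m), D.fv, one_mul]
      _ = _ := by rw [hb, Finset.mul_sum]; exact Finset.sum_congr rfl fun i _ => by ring
  have hσv : ∀ l, σ l D.v = D.v := fun l => by
    refine D.isUnit_f.mul_left_cancel ?_
    rw [D.hv]
    conv_lhs => rw [← (σ l).commutes D.f, ← map_mul, D.hv, map_one]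
  rw [hx']
  refine Submodule.sum_mem _ fun j _ => ?_
  set w := algebraMap B K (b j) * D.v ^ m * D.t ^ (j : ℕ) with hwdef
  have hsum : ∀ i : Fin D.N, (∑ l ∈ Finset.range D.N, ζ ^ (l * (D.N - (j : ℕ))) * (ζ ^ l) ^ (i : ℕ))
      = if i = j then (D.N : B) else 0 := by
    intro i
    have hrw : ∀ l, ζ ^ (l * (D.N - (j : ℕ))) * (ζ ^ l) ^ (i : ℕ) =
        (ζ ^ (D.N - (j : ℕ) + i)) ^ l := fun l => by
      rw [← pow_mul, ← pow_mul, ← pow_add]; congr 1; ring
    simp only [hrw]
    have hj := j.isLt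
    have hi := i.isLt
    split_ifs with hij
    · subst hij
      rw [Nat.sub_add_cancel hi.le, hζ.pow_eq_one]
      simp
    · have hne : ζ ^ (D.N - (j : ℕ) + i) ≠ 1 := fun h => by
        rw [hζ.pow_eq_one_iff_dvd] at h
        obtain ⟨c, hc⟩ := h
        have hne' : (i : ℕ) ≠ (j : ℕ) := fun h => hij (Fin.ext h)
        rcases c with _ | _ | c
        · omega
        · omega
        · have : D.N * 2 ≤ D.N * (c + 1 + 1) := Nat.mul_le_mul_left _ (by omega)
          omega
      have := geom_sum_mul (ζ ^ (D.N - (j : ℕ) + i)) D.N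
      rw [← pow_mul ζ, mul_comm, mul_comm _ D.N, pow_mul, hζ.pow_eq_one, one_pow, sub_self,
        mul_eq_zero] at this
      exact this.resolve_left (sub_ne_zero.mpr hne)
  have hS : ∑ l ∈ Finset.range D.N, algebraMap B K (ζ ^ (l * (D.N - (j : ℕ)))) * σ l x =
      algebraMap B K (D.N : B) * w := by
    simp only [hx', map_sum, map_mul, (σ _).commutes, map_pow (σ _), hσv, hσt, mul_pow,
      Finset.mul_sum]
    rw [Finset.sum_comm, Finset.sum_eq_single j]
    · rw [hwdef, ← (show _ = (D.N : B) from (hsum j).trans (if_pos rfl)), map_sum, Finset.sum_mul]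
      exact Finset.sum_congr rfl fun l _ => by simp only [map_mul, map_pow]; ring
    · intro i _ hij
      calc ∑ l ∈ Finset.range D.N, algebraMap B K (ζ ^ (l * (D.N - (j : ℕ)))) *
            (algebraMap B K (b i) * D.v ^ m * ((algebraMap B K (ζ ^ l)) ^ (i : ℕ) * D.t ^ (i : ℕ)))
          = algebraMap B K (∑ l ∈ Finset.range D.N, ζ ^ (l * (D.N - (j : ℕ))) * (ζ ^ l) ^ (i : ℕ)) *
              (algebraMap B K (b i) * D.v ^ m * D.t ^ (i : ℕ)) := by
            rw [map_sum, Finset.sum_mul]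
            exact Finset.sum_congr rfl fun l _ => by simp only [map_mul, map_pow]; ring
        _ = 0 := by rw [hsum, if_neg hij, map_zero, zero_mul]
    · simp
  have hwint : IsIntegral B w := by
    obtain ⟨c, hc⟩ := hN.exists_left_inv
    have h1 : w = algebraMap B K c * (algebraMap B K (D.N : B) * w) := by
      rw [← mul_assoc, ← map_mul, hc, map_one, one_mul]
    rw [h1, ← hS]
    exact isIntegral_algebraMap.mul ((integralClosure B K).sum_mem fun l _ => isIntegral_algebraMap.mul (hx.map (σ l)))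
  have hdvd := pow_dvd_of_isIntegral D.inj D.isUnit_f D.hred (m * D.N)
    (b j ^ D.N * ((D.u : B) ^ (j : ℕ) * D.f ^ ((j : ℕ) * D.α))) (w ^ D.N) ((integralClosure B K).pow_mem hwint _) (by
      have htj : (D.t ^ (j : ℕ)) ^ D.N =
          algebraMap B K ((D.u : B) ^ (j : ℕ) * D.f ^ ((j : ℕ) * D.α)) := by
        rw [← pow_mul, mul_comm (j : ℕ), pow_mul, D.ht, ← map_pow, mul_pow, ← pow_mul, mul_comm D.α]
      rw [hwdef, pow_mul, mul_pow, mul_pow, htj, map_mul _ (b j ^ D.N), map_pow _ (b j)]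
      calc algebraMap B K ((D.f ^ m) ^ D.N) * (algebraMap B K (b j) ^ D.N * (D.v ^ m) ^ D.N * _)
          = (algebraMap B K (D.f ^ m) * D.v ^ m) ^ D.N * (algebraMap B K (b j) ^ D.N *
            algebraMap B K ((D.u : B) ^ (j : ℕ) * D.f ^ ((j : ℕ) * D.α))) := by
            rw [map_pow _ (D.f ^ m)]; ring
        _ = _ := by rw [D.fv, one_pow, one_mul])
  set q := (j : ℕ) * D.α / D.N with hqdef
  have hjq := Nat.div_add_mod ((j : ℕ) * D.α) D.N
  have hy : D.f ^ m ∣ b j * D.f ^ q := by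
    refine pow_dvd_of_pow_dvd D.hf D.hred (Nat.mod_lt ((j : ℕ) * D.α) D.hN) m _ ?_
    rw [mul_pow, mul_assoc, ← pow_mul, ← pow_add, mul_comm q, hqdef, hjq]
    have h2 : b j ^ D.N * D.f ^ ((j : ℕ) * D.α) = ((D.u⁻¹ : Bˣ) : B) ^ (j : ℕ) *
        (b j ^ D.N * ((D.u : B) ^ (j : ℕ) * D.f ^ ((j : ℕ) * D.α))) := by
      calc _ = (((D.u⁻¹ : Bˣ) : B) * D.u) ^ (j : ℕ) * (b j ^ D.N * D.f ^ ((j : ℕ) * D.α)) := by
            rw [Units.inv_mul, one_pow, one_mul]
        _ = _ := by ring
    rw [h2]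
    exact dvd_mul_of_dvd_right hdvd _
  obtain ⟨c, hc⟩ := hy
  have hw : w = c • D.e j := by
    rw [Algebra.smul_def, e, ← hqdef, hwdef]
    calc algebraMap B K (b j) * D.v ^ m * D.t ^ (j : ℕ)
        = algebraMap B K (b j * D.f ^ q) * D.v ^ q * D.v ^ m * D.t ^ (j : ℕ) := by
          rw [map_mul, mul_assoc _ (algebraMap B K _) (D.v ^ q), D.fv, mul_one]
      _ = algebraMap B K c * (D.t ^ (j : ℕ) * D.v ^ q) * (algebraMap B K (D.f ^ m) * D.v ^ m) := by
          rw [hc, map_mul]; ring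
      _ = _ := by rw [D.fv, mul_one]
  rw [hw]
  exact Submodule.smul_mem _ _ (Submodule.subset_span ⟨j, rfl⟩)

lemma li_e : LinearIndependent B D.e := by
  rw [Fintype.linearIndependent_iff]
  intro g hg i
  have hle : ∀ j : Fin D.N, (j : ℕ) * D.α / D.N ≤ D.α := fun j =>
    Nat.div_le_of_le_mul (Nat.mul_le_mul_right _ j.isLt.le)
  have h1 := Fintype.linearIndependent_iff.mp D.hli
    (fun j => g j * D.f ^ (D.α - (j : ℕ) * D.α / D.N)) (by
    calc ∑ j, (g j * D.f ^ (D.α - (j : ℕ) * D.α / D.N)) • D.t ^ (j : ℕ)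
        = algebraMap B K (D.f ^ D.α) * ∑ j, g j • D.e j := by
          rw [Finset.mul_sum]
          refine Finset.sum_congr rfl fun j _ => ?_
          calc (g j * D.f ^ (D.α - (j : ℕ) * D.α / D.N)) • D.t ^ (j : ℕ)
              = algebraMap B K (g j) * algebraMap B K (D.f ^ (D.α - (j : ℕ) * D.α / D.N)) *
                  D.t ^ (j : ℕ) * (algebraMap B K (D.f ^ ((j : ℕ) * D.α / D.N)) *
                    D.v ^ ((j : ℕ) * D.α / D.N)) := by
                rw [D.fv, mul_one, Algebra.smul_def, map_mul]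
            _ = _ := by
                conv_rhs => rw [← Nat.sub_add_cancel (hle j), pow_add, map_mul]
                rw [Algebra.smul_def, e]; ring
      _ = 0 := by rw [hg, mul_zero]) i
  exact (mul_eq_zero.mp h1).resolve_right (pow_ne_zero _ D.hf)

end Datum

end Groth.Agent.H95.CycAlg.Integral
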