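import Groth.Agent.H95.CycAlg.Regular
import Groth.Agent.Lib.Regular.Quotient
import Mathlib.RingTheory.Finiteness.Basic
import Mathlib.LinearAlgebra.FreeModule.Basic

set_option autoImplicit false
universe u

namespace Groth.Agent.H95.CycAlg.Main

open Polynomial Groth.Agent.H95.CycAlg.Integral

variable {B K : Type u} [CommRing B] [IsDomain B] [CommRing K] [Algebra B K] (D : Datum B K)

omit [IsDomain B] in
lemma mono_eq {P₁ P₂ E₁ E₂ C₁ C₂ : ℕ} (hP : P₁ = P₂) (hE : E₁ + C₂ = E₂ + C₁) :
    D.t ^ P₁ * algebraMap B K D.f ^ E₁ * D.v ^ C₁ = D.t ^ P₂ * algebraMap B K D.f ^ E₂ * D.v ^ C₂ := by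
  refine (D.isUnit_f.pow (C₁ + C₂)).mul_left_cancel ?_
  calc algebraMap B K D.f ^ (C₁ + C₂) * (D.t ^ P₁ * algebraMap B K D.f ^ E₁ * D.v ^ C₁)
      = D.t ^ P₁ * algebraMap B K D.f ^ (E₁ + C₂) * (algebraMap B K D.f * D.v) ^ C₁ := by ring
    _ = D.t ^ P₂ * algebraMap B K D.f ^ (E₂ + C₁) * (algebraMap B K D.f * D.v) ^ C₂ := by
        simp only [D.hv, one_pow, hP, hE]
    _ = _ := by ring

omit [IsDomain B] in
lemma u_eq : algebraMap B K (D.u : B) = D.t ^ D.N * D.v ^ D.α := by
  rw [D.ht, map_mul, map_pow, mul_assoc, ← mul_pow, D.hv, one_pow, mul_one]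

omit [IsDomain B] in
lemma isIntegral_t : IsIntegral B D.t :=
  IsIntegral.of_pow D.hN (D.ht ▸ isIntegral_algebraMap)

variable (A : Subalgebra B K) (hmem : ∀ x, x ∈ A ↔ IsIntegral B x)
  (hgen : A = Algebra.adjoin B (Set.range D.e))

def eA (j : Fin D.N) : A := ⟨D.e j, hgen ▸ Algebra.subset_adjoin ⟨j, rfl⟩⟩

omit [IsDomain B] in
lemma adjoin_eA : Algebra.adjoin B (Set.range (eA D A hgen)) = ⊤ := by
  apply Subalgebra.map_injective (f := A.val) Subtype.val_injective
  rw [AlgHom.map_adjoin, ← Set.range_comp, Algebra.map_top, Subalgebra.range_val]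
  exact hgen.symm

include hmem hgen in
theorem exists_uniformizer [IsNoetherianRing B] [IsNoetherianRing A] [Module.Flat B A]
    (hreg : ∀ (P : Ideal B) [P.IsPrime], IsRegularLocalRing (Localization.AtPrime P))
    (hD : ∀ (P : Ideal (B ⧸ Ideal.span ({D.f} : Set B))) [P.IsPrime],
      IsRegularLocalRing (Localization.AtPrime P))
    (hN : IsUnit (D.N : B)) :
    ∃ (s w : A), IsUnit w ∧ s ^ (D.N / Nat.gcd D.N D.α) = w * algebraMap B A D.f ∧
      ∀ (Q : Ideal A) [Q.IsPrime], IsRegularLocalRing (Localization.AtPrime Q) ∧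
        (s ∈ Q → (Ideal.span ({algebraMap A (Localization.AtPrime Q) s} : Set _)).IsPrime) := by
  classical
  obtain ⟨g, n, a, hg, hcop, hNg, hαg⟩ := Nat.exists_coprime' (m := D.N) (n := D.α)
    (Nat.gcd_pos_of_pos_left D.α D.hN)
  have hn : 0 < n := Nat.pos_of_ne_zero fun h => by rw [h, zero_mul] at hNg; exact D.hN.ne' hNg
  obtain ⟨i, q, hiq⟩ := Regular.exists_inv (a + n) n hn (by omega)
    (by simpa [Nat.coprime_add_self_left] using hcop.symm)
  let ω₀ : K := D.t ^ n * D.v ^ a
  let s₀ : K := D.t ^ i * algebraMap B K D.f ^ i * D.v ^ q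
  have hω : ω₀ ^ g = algebraMap B K (D.u : B) := by
    rw [u_eq D, hNg, hαg]; ring
  have hs : s₀ ^ n = ω₀ ^ i * algebraMap B K D.f := by
    have h : (i * (a + n)) = 1 + n * q := hiq
    calc s₀ ^ n = D.t ^ (i * n) * algebraMap B K D.f ^ (i * n) * D.v ^ (q * n) := by ring
      _ = D.t ^ (i * n) * algebraMap B K D.f ^ 1 * D.v ^ (a * i) := by
          refine mono_eq D rfl ?_
          rw [mul_add] at h
          rw [mul_comm a i, mul_comm q n]
          omega
      _ = _ := by ring
  have hωint : IsIntegral B ω₀ := IsIntegral.of_pow hg (hω ▸ isIntegral_algebraMap)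
  have hωi : IsIntegral B (ω₀ ^ i * algebraMap B K D.f) :=
    ((integralClosure B K).pow_mem hωint i).mul isIntegral_algebraMap
  have hsint : IsIntegral B s₀ := IsIntegral.of_pow hn (hs ▸ hωi)
  let ω : A := ⟨ω₀, (hmem _).mpr hωint⟩
  let s : A := ⟨s₀, (hmem _).mpr hsint⟩
  have hωA : ω ^ g = algebraMap B A (D.u : B) := Subtype.ext hω
  have hsA : s ^ n = ω ^ i * algebraMap B A D.f := Subtype.ext hs
  have hgcd : D.N / Nat.gcd D.N D.α = n := by
    rw [hNg, hαg, Nat.gcd_mul_right, Nat.Coprime.gcd_eq_one hcop, one_mul, Nat.mul_div_cancel _ hg]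
  have hωu : IsUnit ω := (isUnit_pow_iff hg.ne').mp (by rw [hωA]; exact D.u.isUnit.map _)
  refine ⟨s, ω ^ i, hωu.pow i, by rw [hgcd]; exact hsA, fun Q hQ => ?_⟩
  let P : Ideal B := Q.under B
  haveI : Q.LiesOver P := ⟨rfl⟩
  haveI : P.IsPrime := inferInstanceAs (Q.comap (algebraMap B A)).IsPrime
  let L := Localization.AtPrime Q
  let γ : B →+* L := (algebraMap A L).comp (algebraMap B A)
  have hPmax : ∀ b ∈ P, γ b ∈ IsLocalRing.maximalIdeal L := fun b hb =>
    (IsLocalization.AtPrime.to_map_mem_maximal_iff L Q _).mpr hb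
  have hu : ∀ {b : B}, IsUnit b → b ∉ P := fun hb h =>
    Ideal.IsPrime.ne_top (inferInstanceAs P.IsPrime) (P.eq_top_of_isUnit_mem h hb)
  by_cases hf : D.f ∈ P
  · -- over the divisor
    obtain ⟨T, hT, hTP, hTs⟩ := Regular.exists_gens_mem P D.hf hf hD
    have hsQ : s ∈ Q := by
      refine Ideal.IsPrime.mem_of_pow_mem inferInstance n ?_
      rw [hsA]
      exact Q.mul_mem_left _ hf
    let I : Ideal L := Ideal.span (insert (algebraMap A L s) (γ '' (T : Set B)))
    have hI : I ≤ IsLocalRing.maximalIdeal L := by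
      refine Ideal.span_le.mpr (Set.insert_subset ?_ ?_)
      · exact (IsLocalization.AtPrime.to_map_mem_maximal_iff L Q _).mpr hsQ
      · rintro _ ⟨b, hb, rfl⟩; exact hPmax b (hTP b hb)
    have hsI : algebraMap A L s ∈ I := Ideal.subset_span (Set.mem_insert _ _)
    have hfI : γ D.f ∈ I := by
      have h1 : IsUnit (algebraMap A L (ω ^ i)) := by
        refine IsUnit.map _ (IsUnit.pow _ ((isUnit_pow_iff (hg.ne')).mp ?_))
        rw [hωA]; exact D.u.isUnit.map _
      refine (Ideal.unit_mul_mem_iff_mem I h1).mp ?_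
      change algebraMap A L (ω ^ i) * algebraMap A L (algebraMap B A D.f) ∈ I
      rw [← map_mul, ← hsA, map_pow]
      exact Ideal.pow_mem_of_mem I hsI n hn
    have hPI : ∀ b ∈ P, γ b ∈ I := fun b hb => by
      obtain ⟨c, hc, hcb⟩ := hTs b hb
      have h2 := Regular.mem_span_image P Q (insert D.f (T : Set B)) b c hc hcb
      refine (Ideal.span_le.mpr ?_) h2
      rintro _ ⟨y, hy, rfl⟩
      rcases hy with rfl | hy
      · exact hfI
      · exact Ideal.subset_span (Set.mem_insert_of_mem _ ⟨y, hy, rfl⟩)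
    have hmax : I = IsLocalRing.maximalIdeal L := by
      refine Regular.eq_maximalIdeal P Q I hI hPI _ (adjoin_eA D A hgen) ω g (D.u : B) ?_
        (hu D.u.isUnit) ?_ ?_
      · intro h
        apply hu hN
        rw [hNg, Nat.cast_mul]
        exact P.mul_mem_left _ h
      · rw [hωA, sub_self, map_zero]; exact I.zero_mem
      · rintro _ ⟨j, rfl⟩
        set m := (j : ℕ) * D.α / D.N with hm
        have hmn : m = (j : ℕ) * a / n := by
          calc m = (j : ℕ) * (a * g) / (n * g) := by rw [← hαg, ← hNg]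
            _ = _ := by rw [← mul_assoc, Nat.mul_div_mul_right _ _ hg]
        have hdm := Nat.div_add_mod ((j : ℕ) * a) n
        rw [← hmn] at hdm
        set r := (j : ℕ) * a % n with hr
        set M := (j : ℕ) * q with hM
        obtain ⟨g', hg'⟩ : ∃ g', g = g' + 1 := ⟨g - 1, by omega⟩
        set x := i * j + i * m + g' * M with hx
        have key : algebraMap B A ((D.u : B) ^ M) * eA D A hgen j = s ^ r * ω ^ x := by
          refine Subtype.ext ?_
          change algebraMap B K ((D.u : B) ^ M) * D.e j = s₀ ^ r * ω₀ ^ x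
          rw [map_pow, u_eq D, Datum.e, ← hm]
          calc (D.t ^ D.N * D.v ^ D.α) ^ M * (D.t ^ (j : ℕ) * D.v ^ m)
              = D.t ^ (D.N * M + j) * algebraMap B K D.f ^ 0 * D.v ^ (D.α * M + m) := by ring
            _ = D.t ^ (i * r + n * x) * algebraMap B K D.f ^ (i * r) * D.v ^ (q * r + a * x) := by
                have hz1 : (i : ℤ) * (a + n) = 1 + n * q := by exact_mod_cast hiq
                have hz2 : (n : ℤ) * m + r = j * a := by exact_mod_cast hdm
                refine mono_eq D ?_ ?_
                · have : ((D.N * M + j : ℕ) : ℤ) = ((i * r + n * x : ℕ) : ℤ) := by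
                    rw [show D.N * M = n * g * M by rw [← hNg], hg', hx, hM]; push_cast
                    linear_combination (-(j : ℤ)) * hz1 - (i : ℤ) * hz2
                  exact_mod_cast this
                · refine Nat.eq_of_mul_eq_mul_left hn ?_
                  have : ((n * (0 + (q * r + a * x)) : ℕ) : ℤ) = ((n * (i * r + (D.α * M + m)) : ℕ) : ℤ) := by
                    rw [hαg, hg', hx, hM]; push_cast
                    linear_combination ((a : ℤ) * j - r) * hz1 + ((a : ℤ) * i - 1) * hz2
                  exact_mod_cast this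
            _ = _ := by ring
        refine ⟨(D.u : B) ^ M, if r = 0 then 1 else 0, x, hu (D.u.isUnit.pow M), ?_⟩
        rw [key]
        rcases Nat.eq_zero_or_pos r with h0 | h0
        · rw [h0, if_pos rfl, pow_zero, map_one, sub_self, map_zero]; exact I.zero_mem
        · rw [if_neg h0.ne', map_zero, zero_mul, sub_zero, map_mul, map_pow]
          exact I.mul_mem_right _ (Ideal.pow_mem_of_mem I hsI r h0)
    have hcard : ((insert (algebraMap A L s) (T.image γ)).card : WithBot ℕ∞) ≤
        ringKrullDim (Localization.AtPrime P) := by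
      refine le_trans ?_ hT
      have h := (Finset.card_insert_le (algebraMap A L s) (T.image γ)).trans
        (Nat.add_le_add_right Finset.card_image_le 1)
      exact le_trans (by exact_mod_cast h) (le_refl _)
    refine ⟨Regular.isRegularLocalRing_of_span P Q (insert (algebraMap A L s) (T.image γ))
      (by rw [Finset.coe_insert, Finset.coe_image]; exact hmax) hcard, fun _ => ?_⟩
    haveI : IsRegularLocalRing L := Regular.isRegularLocalRing_of_span P Q
      (insert (algebraMap A L s) (T.image γ))
      (by rw [Finset.coe_insert, Finset.coe_image]; exact hmax) hcard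
    have h2 : (({algebraMap A L s} : Finset L).card + (T.image γ).card : ℕ) ≤
        (ringKrullDim L : WithBot ℕ∞) := by
      refine le_trans ?_ (hT.trans ?_)
      · have h : ({algebraMap A L s} : Finset L).card + (T.image γ).card ≤ T.card + 1 := by
          rw [Finset.card_singleton, add_comm]
          exact Nat.add_le_add_right Finset.card_image_le 1
        exact le_trans (by exact_mod_cast h) (le_refl _)
      · rw [IsLocalization.AtPrime.ringKrullDim_eq_height P (Localization.AtPrime P),
          IsLocalization.AtPrime.ringKrullDim_eq_height Q L, WithBot.coe_le_coe,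
          Ideal.height_eq_height_add_of_liesOver_of_hasGoingDown P Q]
        exact le_self_add
    obtain ⟨h3, -⟩ := Lib.Regular.Quotient.quotient_of_gens {algebraMap A L s} (T.image γ)
      (by rw [Finset.coe_union, Finset.coe_singleton, Finset.coe_image, ← Set.insert_eq]; exact hmax) h2
    rw [Finset.coe_singleton] at h3
    haveI := h3
    haveI := Lib.Regular.Quotient.isDomain (L ⧸ Ideal.span ({algebraMap A L s} : Set L))
    exact (Ideal.Quotient.isDomain_iff_prime _).mp inferInstance
  · -- away from the divisor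
    haveI := hreg P
    obtain ⟨T, hT, hTP, hTs⟩ := Regular.exists_gens P
    let I : Ideal L := Ideal.span (γ '' (T : Set B))
    let τ : A := ⟨D.t, (hmem _).mpr (isIntegral_t D)⟩
    have hmax : I = IsLocalRing.maximalIdeal L := by
      refine Regular.eq_maximalIdeal P Q I ?_ ?_ _ (adjoin_eA D A hgen) τ D.N
        ((D.u : B) * D.f ^ D.α) (hu hN) ?_ ?_ ?_
      · refine Ideal.span_le.mpr ?_
        rintro _ ⟨b, hb, rfl⟩; exact hPmax b (hTP b hb)
      · intro b hb
        obtain ⟨c, hc, hcb⟩ := hTs b hb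
        exact Regular.mem_span_image P Q (T : Set B) b c hc hcb
      · intro h
        rcases Ideal.IsPrime.mem_or_mem inferInstance h with h | h
        · exact hu D.u.isUnit h
        · exact hf (Ideal.IsPrime.mem_of_pow_mem inferInstance _ h)
      · have : τ ^ D.N = algebraMap B A ((D.u : B) * D.f ^ D.α) := Subtype.ext D.ht
        rw [this, sub_self, map_zero]; exact I.zero_mem
      · rintro _ ⟨j, rfl⟩
        refine ⟨D.f ^ ((j : ℕ) * D.α / D.N), 1, (j : ℕ),
          fun h => hf (Ideal.IsPrime.mem_of_pow_mem inferInstance _ h), ?_⟩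
        have : algebraMap B A (D.f ^ ((j : ℕ) * D.α / D.N)) * eA D A hgen j = τ ^ (j : ℕ) := by
          refine Subtype.ext ?_
          change algebraMap B K _ * D.e j = D.t ^ (j : ℕ)
          rw [Datum.e, mul_left_comm, D.fv, mul_one]
        rw [this, map_one, one_mul, sub_self, map_zero]; exact I.zero_mem
    refine ⟨Regular.isRegularLocalRing_of_span P Q (T.image γ) ?_ (le_trans ?_ hT), fun hsQ => absurd ?_ hf⟩
    rotate_left 2
    · have h1 := Q.pow_mem_of_mem hsQ n (Nat.pos_of_ne_zero hn.ne')
      rw [hsA] at h1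
      exact ((Ideal.IsPrime.mem_or_mem inferInstance h1).resolve_left fun h =>
        Ideal.IsPrime.ne_top (inferInstanceAs Q.IsPrime) (Q.eq_top_of_isUnit_mem h (hωu.pow i)))
    · rw [Finset.coe_image]; exact hmax
    · exact_mod_cast Finset.card_image_le

include hmem hgen in
theorem isRegularLocalRing [IsNoetherianRing B] [IsNoetherianRing A] [Module.Flat B A]
    (hreg : ∀ (P : Ideal B) [P.IsPrime], IsRegularLocalRing (Localization.AtPrime P))
    (hD : ∀ (P : Ideal (B ⧸ Ideal.span ({D.f} : Set B))) [P.IsPrime],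
      IsRegularLocalRing (Localization.AtPrime P))
    (hN : IsUnit (D.N : B)) (Q : Ideal A) [Q.IsPrime] :
    IsRegularLocalRing (Localization.AtPrime Q) := by
  obtain ⟨s, w, -, -, h⟩ := exists_uniformizer D A hmem hgen hreg hD hN
  exact (h Q).1

end Groth.Agent.H95.CycAlg.Main
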