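import Groth.Agent.H95.CycAlg.Integral
import Mathlib.RingTheory.RegularLocalRing.Defs
import Mathlib.RingTheory.Ideal.GoingDown
import Mathlib.RingTheory.Ideal.KrullsHeightTheorem
import Mathlib.RingTheory.KrullDimension.NonZeroDivisors
import Mathlib.RingTheory.LocalRing.ResidueField.Ideal
import Mathlib.FieldTheory.Separable

set_option autoImplicit false
universe u

namespace Groth.Agent.H95.CycAlg.Regular

open Polynomial

lemma isUnit_or_eq_zero {κ R : Type*} [Field κ] [CommRing R] [IsLocalRing R] (ψ : κ[X] →+* R)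
    {p : κ[X]} (hp : Squarefree p) (hψ : ψ p = 0) (q : κ[X]) : IsUnit (ψ q) ∨ ψ q = 0 := by
  classical
  by_cases hu : IsUnit (ψ q)
  · exact Or.inl hu
  right
  obtain ⟨e, he⟩ := EuclideanDomain.gcd_dvd_right q p
  set d := EuclideanDomain.gcd q p with hd
  have hcop : IsCoprime d e := by
    refine IsRelPrime.isCoprime fun r hr1 hr2 => ?_
    exact hp r (he ▸ mul_dvd_mul hr1 hr2)
  have hdR : ¬ IsUnit (ψ d) := by
    rw [hd, EuclideanDomain.gcd_eq_gcd_ab, map_add, map_mul, map_mul, hψ, zero_mul, add_zero]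
    exact fun h => hu (isUnit_of_mul_isUnit_left h)
  obtain ⟨x, y, hxy⟩ := hcop
  have h1 : ψ x * ψ d + ψ y * ψ e = 1 := by rw [← map_mul, ← map_mul, ← map_add, hxy, map_one]
  have heR : IsUnit (ψ e) := by
    rcases IsLocalRing.isUnit_or_isUnit_of_add_one h1 with h | h
    · exact absurd (isUnit_of_mul_isUnit_right h) hdR
    · exact isUnit_of_mul_isUnit_right h
  have h0 : ψ d = 0 := heR.mul_left_eq_zero.mp (by rw [← map_mul, ← he, hψ])
  obtain ⟨z, hz⟩ := EuclideanDomain.gcd_dvd_left q p
  rw [hz, map_mul, ← hd, h0, zero_mul]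

section

variable {B A : Type u} [CommRing B] [CommRing A] [Algebra B A] (P : Ideal B) [P.IsPrime]
  (Q : Ideal A) [Q.IsPrime] [Q.LiesOver P]

lemma eq_maximalIdeal (I : Ideal (Localization.AtPrime Q))
    (hI : I ≤ IsLocalRing.maximalIdeal (Localization.AtPrime Q))
    (hP : ∀ b ∈ P, algebraMap A (Localization.AtPrime Q) (algebraMap B A b) ∈ I)
    (S : Set A) (hS : Algebra.adjoin B S = ⊤) (w : A) (g : ℕ) (c : B)
    (hg : (g : B) ∉ P) (hc : c ∉ P)
    (hw : algebraMap A (Localization.AtPrime Q) (w ^ g - algebraMap B A c) ∈ I)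
    (hSw : ∀ a ∈ S, ∃ (s b : B) (l : ℕ), s ∉ P ∧
      algebraMap A (Localization.AtPrime Q) (algebraMap B A s * a - algebraMap B A b * w ^ l) ∈ I) :
    I = IsLocalRing.maximalIdeal (Localization.AtPrime Q) := by
  let L := Localization.AtPrime Q
  have hne : I ≠ ⊤ := fun h => (IsLocalRing.maximalIdeal.isMaximal L).ne_top (top_le_iff.mp (h ▸ hI))
  haveI : Nontrivial (L ⧸ I) := Ideal.Quotient.nontrivial_iff.mpr hne
  haveI : IsLocalRing (L ⧸ I) := IsLocalRing.of_surjective' (Ideal.Quotient.mk I) Ideal.Quotient.mk_surjective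
  let π : A →+* L ⧸ I := (Ideal.Quotient.mk I).comp (algebraMap A L)
  have hπ : ∀ a : A, π a = 0 ↔ algebraMap A L a ∈ I := fun a => Ideal.Quotient.eq_zero_iff_mem
  have hker : P ≤ RingHom.ker (π.comp (algebraMap B A)) := fun b hb => (hπ _).mpr (hP b hb)
  have hunit : ∀ b, b ∉ P → IsUnit (π (algebraMap B A b)) := fun b hb =>
    ((IsLocalization.map_units L (⟨algebraMap B A b, fun h =>
      hb ((Ideal.mem_of_liesOver Q P b).mpr h)⟩ : Q.primeCompl)).map (Ideal.Quotient.mk I))
  let ι : P.ResidueField →+* L ⧸ I :=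
    Ideal.ResidueField.lift P (π.comp (algebraMap B A)) hker fun b hb => (show IsUnit (π (algebraMap B A b)) from hunit b hb)
  have hι : ∀ b, ι (algebraMap B _ b) = π (algebraMap B A b) := fun b =>
    Ideal.ResidueField.lift_algebraMap P (π.comp (algebraMap B A)) hker _ b
  let ψ : P.ResidueField[X] →+* L ⧸ I := Polynomial.eval₂RingHom ι (π w)
  have hψC : ∀ b, ψ (C (algebraMap B _ b)) = π (algebraMap B A b) := fun b => by simp [ψ, hι]
  have hne0 : ∀ b, b ∉ P → algebraMap B P.ResidueField b ≠ 0 := fun b hb h =>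
    hb (Ideal.algebraMap_residueField_eq_zero.mp h)
  let p : P.ResidueField[X] := X ^ g - C (algebraMap B _ c)
  have hp : Squarefree p := by
    refine (separable_X_pow_sub_C _ ?_ (hne0 c hc)).squarefree
    rw [← map_natCast (algebraMap B P.ResidueField)]
    exact hne0 _ hg
  have hψp : ψ p = 0 := by
    rw [map_sub, map_pow, hψC]
    have h := (hπ _).mpr hw
    rw [map_sub, map_pow] at h
    simpa [ψ] using h
  have hrange : ∀ a : A, π a ∈ ψ.range := by
    intro a
    have ha : a ∈ Algebra.adjoin B S := hS ▸ Algebra.mem_top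
    induction ha using Algebra.adjoin_induction with
    | mem x hx =>
      obtain ⟨s, b, l, hs, hm⟩ := hSw x hx
      have h := (hπ _).mpr hm
      rw [map_sub, map_mul, map_mul, map_pow, sub_eq_zero] at h
      refine ⟨C (algebraMap B _ s)⁻¹ * (C (algebraMap B _ b) * X ^ l), ?_⟩
      refine (hunit s hs).mul_left_cancel ?_
      rw [h, map_mul, map_mul, map_pow, ← mul_assoc, ← hψC s, ← map_mul ψ (C _), ← C_mul,
        mul_inv_cancel₀ (hne0 s hs), C_1, map_one, one_mul, hψC]
      simp [ψ]
    | algebraMap b => exact ⟨C (algebraMap B _ b), hψC b⟩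
    | add x y _ _ hx hy => rw [map_add]; exact add_mem hx hy
    | mul x y _ _ hx hy => rw [map_mul]; exact mul_mem hx hy
  refine le_antisymm hI fun x hx => ?_
  obtain ⟨a, s, rfl⟩ := IsLocalization.exists_mk'_eq Q.primeCompl x
  have ha : ¬ IsUnit (algebraMap A L a) := fun h => by
    apply hx
    have h2 := IsLocalization.mk'_spec L a s
    rw [← h2] at h
    exact isUnit_of_mul_isUnit_left h
  have haπ : π a = 0 := by
    obtain ⟨q, hq⟩ := hrange a
    rcases isUnit_or_eq_zero ψ hp hψp q with h | h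
    · exfalso
      rw [hq] at h
      apply ha
      haveI : IsLocalHom (Ideal.Quotient.mk I) := IsLocalHom.of_surjective _ Ideal.Quotient.mk_surjective
      exact isUnit_of_map_unit (Ideal.Quotient.mk I) _ h
    · rw [← hq, h]
  rw [IsLocalization.mk'_eq_mul_mk'_one (M := Q.primeCompl)]
  exact I.mul_mem_right _ ((hπ a).mp haπ)

/-- criterion: maximal ideal generated by `dim B_P` elements -/
lemma isRegularLocalRing_of_span [IsNoetherianRing B] [IsNoetherianRing A] [Module.Flat B A]
    (T : Finset (Localization.AtPrime Q))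
    (hT : Ideal.span (T : Set (Localization.AtPrime Q)) = IsLocalRing.maximalIdeal _)
    (hcard : ((T.card : ℕ) : WithBot ℕ∞) ≤ ringKrullDim (Localization.AtPrime P)) :
    IsRegularLocalRing (Localization.AtPrime Q) := by
  refine IsRegularLocalRing.of_spanFinrank_maximalIdeal_le _ (le_trans ?_ (hcard.trans ?_))
  · rw [← hT]
    have := Submodule.spanFinrank_span_le_ncard_of_finite (R := Localization.AtPrime Q) T.finite_toSet
    rw [Set.ncard_coe_finset] at this
    exact_mod_cast this
  · rw [IsLocalization.AtPrime.ringKrullDim_eq_height P (Localization.AtPrime P),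
      IsLocalization.AtPrime.ringKrullDim_eq_height Q (Localization.AtPrime Q),
      WithBot.coe_le_coe, Ideal.height_eq_height_add_of_liesOver_of_hasGoingDown P Q]
    exact le_self_add

omit [Q.LiesOver P] in
lemma mem_span_image [Q.LiesOver P] (T : Set B) (b s : B) (hs : s ∉ P) (h : s * b ∈ Ideal.span T) :
    algebraMap A (Localization.AtPrime Q) (algebraMap B A b) ∈
      Ideal.span (((algebraMap A (Localization.AtPrime Q)).comp (algebraMap B A)) '' T) := by
  rw [← Ideal.map_span]
  have := Ideal.mem_map_of_mem ((algebraMap A (Localization.AtPrime Q)).comp (algebraMap B A)) h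
  rw [map_mul] at this
  exact (Ideal.unit_mul_mem_iff_mem _ (IsLocalization.map_units (Localization.AtPrime Q)
    (⟨algebraMap B A s, fun h => hs ((Ideal.mem_of_liesOver Q P s).mpr h)⟩ : Q.primeCompl))).mp this

end

section

variable {B : Type u} [CommRing B] (P : Ideal B) [P.IsPrime]

lemma exists_gens [IsRegularLocalRing (Localization.AtPrime P)] :
    ∃ T : Finset B, (T.card : WithBot ℕ∞) ≤ ringKrullDim (Localization.AtPrime P) ∧
      (∀ x ∈ T, x ∈ P) ∧ ∀ b ∈ P, ∃ s ∉ P, s * b ∈ Ideal.span (T : Set B) := by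
  classical
  let L := Localization.AtPrime P
  obtain ⟨T₀, hT₀, hspan⟩ := Submodule.FG.exists_span_finset_card_eq_spanFinrank
    (p := IsLocalRing.maximalIdeal L) (IsNoetherian.noetherian _)
  let num : L → B := fun x => (IsLocalization.sec P.primeCompl x).1
  refine ⟨T₀.image num, ?_, ?_, ?_⟩
  · rw [← IsRegularLocalRing.spanFinrank_maximalIdeal (R := L), ← hT₀]
    exact_mod_cast Finset.card_image_le
  · intro x hx
    obtain ⟨y, hy, rfl⟩ := Finset.mem_image.mp hx
    have hym : y ∈ IsLocalRing.maximalIdeal L := hspan ▸ Ideal.subset_span hy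
    rw [← IsLocalization.AtPrime.to_map_mem_maximal_iff L P, ← IsLocalization.sec_spec P.primeCompl y]
    exact Ideal.mul_mem_right _ _ hym
  · intro b hb
    have h1 : algebraMap B L b ∈ IsLocalRing.maximalIdeal L :=
      (IsLocalization.AtPrime.to_map_mem_maximal_iff L P b).mpr hb
    have h2 : IsLocalRing.maximalIdeal L ≤
        (Ideal.span ((T₀.image num : Finset B) : Set B)).map (algebraMap B L) := by
      rw [← hspan]
      refine Submodule.span_le.mpr fun y hy => ?_
      have h3 := IsLocalization.sec_spec P.primeCompl y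
      refine (Ideal.mul_unit_mem_iff_mem _ (IsLocalization.map_units L (IsLocalization.sec P.primeCompl y).2)).mp ?_
      rw [h3]
      exact Ideal.mem_map_of_mem _ (Ideal.subset_span (Finset.mem_image_of_mem num hy))
    obtain ⟨s, hs, hsb⟩ := (IsLocalization.algebraMap_mem_map_algebraMap_iff P.primeCompl L
      (Ideal.span ((T₀.image num : Finset B) : Set B)) b).mp (h2 h1)
    exact ⟨s, hs, hsb⟩

variable [IsDomain B] {f : B}

lemma exists_gens_mem (hf : f ≠ 0) (hfP : f ∈ P)
    (hD : ∀ (P : Ideal (B ⧸ Ideal.span ({f} : Set B))) [P.IsPrime],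
      IsRegularLocalRing (Localization.AtPrime P)) :
    ∃ T : Finset B, (T.card : WithBot ℕ∞) + 1 ≤ ringKrullDim (Localization.AtPrime P) ∧
      (∀ x ∈ T, x ∈ P) ∧ ∀ b ∈ P, ∃ s ∉ P, s * b ∈ Ideal.span (insert f (T : Set B)) := by
  classical
  let mk := Ideal.Quotient.mk (Ideal.span ({f} : Set B))
  let P' := P.map mk
  have hle : Ideal.span ({f} : Set B) ≤ P := (Ideal.span_singleton_le_iff_mem _).mpr hfP
  haveI : P'.IsPrime := Ideal.map_isPrime_of_surjective Ideal.Quotient.mk_surjective
    (by rw [Ideal.mk_ker]; exact hle)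
  have hcomap : P = P'.comap mk := by
    rw [Ideal.comap_map_of_surjective' _ Ideal.Quotient.mk_surjective, Ideal.mk_ker,
      sup_eq_left.mpr hle]
  haveI := hD P'
  obtain ⟨T, hT, hTP, hTs⟩ := exists_gens P'
  let lift : B ⧸ Ideal.span ({f} : Set B) → B := Function.surjInv Ideal.Quotient.mk_surjective
  have hlift : ∀ x, mk (lift x) = x := Function.surjInv_eq Ideal.Quotient.mk_surjective
  refine ⟨T.image lift, le_trans ?_ (ringKrullDim_succ_le_of_surjective
    (Localization.localRingHom P P' mk hcomap) ?_ (r := algebraMap B _ f) ?_ ?_), ?_, ?_⟩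
  · refine add_le_add ?_ le_rfl
    refine le_trans ?_ hT
    exact_mod_cast Finset.card_image_le
  · intro x
    obtain ⟨c, d, rfl⟩ := IsLocalization.exists_mk'_eq P'.primeCompl x
    obtain ⟨c, rfl⟩ := Ideal.Quotient.mk_surjective c
    obtain ⟨d', hd'⟩ := Ideal.Quotient.mk_surjective (d : B ⧸ Ideal.span ({f} : Set B))
    have hdP : d' ∈ P.primeCompl := fun h => d.2 (hd' ▸ Ideal.mem_map_of_mem mk h)
    refine ⟨IsLocalization.mk' _ c (⟨d', hdP⟩ : P.primeCompl), ?_⟩
    rw [Localization.localRingHom_mk']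
    exact congrArg _ (Subtype.ext hd')
  · exact mem_nonZeroDivisors_of_ne_zero fun h =>
      hf ((IsLocalization.to_map_eq_zero_iff (Localization.AtPrime P) P.primeCompl_le_nonZeroDivisors).mp h)
  · rw [Localization.localRingHom_to_map, Ideal.Quotient.eq_zero_iff_mem.mpr
      (Ideal.mem_span_singleton_self f), map_zero]
  · intro x hx
    obtain ⟨y, hy, rfl⟩ := Finset.mem_image.mp hx
    rw [hcomap, Ideal.mem_comap, hlift]
    exact hTP y hy
  · intro b hb
    obtain ⟨s, hs, hsb⟩ := hTs (mk b) (Ideal.mem_map_of_mem mk hb)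
    obtain ⟨s, rfl⟩ := Ideal.Quotient.mk_surjective s
    refine ⟨s, fun h => hs (Ideal.mem_map_of_mem mk h), ?_⟩
    have himg : Ideal.span (T : Set (B ⧸ Ideal.span ({f} : Set B))) =
        (Ideal.span ((T.image lift : Finset B) : Set B)).map mk := by
      rw [Ideal.map_span, Finset.coe_image, Set.image_image]
      simp only [hlift, Set.image_id']
    rw [himg, ← map_mul, ← Ideal.mem_comap, Ideal.comap_map_of_surjective' _
      Ideal.Quotient.mk_surjective, Ideal.mk_ker] at hsb
    rw [Ideal.span_insert, sup_comm]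
    exact hsb

end

lemma exists_inv (x n : ℕ) (hn : 0 < n) (hx : 0 < x) (h : Nat.Coprime x n) :
    ∃ i q : ℕ, i * x = 1 + n * q := by
  by_cases h1 : n = 1
  · subst h1; exact ⟨1, x - 1, by omega⟩
  obtain ⟨m, -, hm⟩ := Nat.exists_mul_mod_eq_one_of_coprime h (by omega)
  refine ⟨m, x * m / n, ?_⟩
  have := Nat.div_add_mod (x * m) n
  rw [hm] at this
  rw [mul_comm m x]
  omega

end Groth.Agent.H95.CycAlg.Regular
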